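import Cfsg.Agent.S1265
import Cfsg.Agent.SignalizersComponents.Components
import Cfsg.Agent.FastGrp
import Cfsg.Agent.Prune
set_option linter.all false
prune_inst 0x7f00000000000000000000000000000000000000000000000000000000000000000000000000000000000000000000000000000000000000000000000000000000000000000000000000000000000000003fffffffffffffffffffffffffffbeffbdffffffff
open scoped Cfsg.Agent.FastGrp

/-!
# Finite groups without nontrivial solvable normal subgroups (helper369, for S3445)

`NoSol H`: no nontrivial solvable normal subgroup.  Then the components of `H` are nonabelian simple groups, commute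
pairwise, are permuted by conjugation, and an element centralising all of them is trivial.

`exists_two_mul`: the order of an element `h` of odd order `n`, doubled, is again an element order, if the number of
components exceeds `n * n` and every coset of `Inn C` in `Aut C` has elements of even order (`C` a component).
-/

set_option autoImplicit false

namespace Cfsg.Agent.H369.Socle

open Subgroup Cfsg Cfsg.Agent.SignalizersComponents.Components

/-- no nontrivial solvable normal subgroup -/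
def NoSol (H : Type*) [Group H] : Prop := ∀ K : Subgroup H, K.Normal → Group.IsSolvable K → K = ⊥

section

variable {H : Type*} [Group H] [Finite H]

theorem fitting_eq_bot (hR : NoSol H) : fittingSubgroup H = ⊥ := by
  rw [eq_bot_iff]
  unfold fittingSubgroup
  refine sSup_le ?_
  rintro N ⟨h1, h2⟩
  have : Group.IsSolvable N := by
    have := h2
    infer_instance
  exact (hR N h1 this).le

theorem genFitting_eq (hR : NoSol H) : generalizedFittingSubgroup H = layer H := by
  unfold generalizedFittingSubgroup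
  rw [fitting_eq_bot hR, sup_bot_eq]

theorem eq_one_of_centralizes (hR : NoSol H) {h : H}
    (hc : ∀ C : Subgroup H, IsComponent C → ∀ x ∈ C, h * x * h⁻¹ = x) : h = 1 := by
  have hcent : ∀ g : H, g ∈ centralizer (layer H : Set H) ↔
      ∀ C : Subgroup H, IsComponent C → ∀ x ∈ C, g * x * g⁻¹ = x := by
    intro g
    constructor
    · intro hg C hC x hx
      have h1 := mem_centralizer_iff.1 hg x (component_le_layer hC hx)
      rw [← h1, mul_inv_cancel_right]
    · intro hg
      have h1 : layer H ≤ centralizer ({g} : Set H) := by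
        rw [layer_le_iff]
        intro K hK x hx
        rw [mem_centralizer_singleton_iff]
        have h2 := hg K hK x hx
        rw [mul_inv_eq_iff_eq_mul] at h2
        exact h2.symm
      rw [mem_centralizer_iff]
      intro x hx
      have h2 := h1 hx
      rw [mem_centralizer_singleton_iff] at h2
      exact h2
  have hn : (layer H).Normal := layer_normal H
  have h1 : h ∈ centralizer (layer H : Set H) := (hcent h).2 hc
  have h2 : centralizer (layer H : Set H) ≤ layer H := by
    have h3 := Cfsg.Agent.S1265.result (G := H)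
    rwa [genFitting_eq hR] at h3
  have h4 : centralizer (layer H : Set H) = ⊥ := by
    refine hR _ inferInstance ?_
    have hcomm : ∀ a b : centralizer (layer H : Set H), a * b = b * a := by
      intro a b
      apply Subtype.ext
      exact (mem_centralizer_iff.1 a.2 _ (h2 b.2)).symm
    exact Group.isSolvable_of_comm hcomm
  rw [h4] at h1
  exact mem_bot.1 h1

theorem comm_of_ne {C D : Subgroup H} (hC : IsComponent C) (hD : IsComponent D) (hne : C ≠ D) {x y : H}
    (hx : x ∈ C) (hy : y ∈ D) : x * y = y * x := by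
  have h1 := component_le_centralizer_of_ne hC hD hne hx
  exact (mem_centralizer_iff.1 h1 y hy).symm

theorem center_eq_bot (hR : NoSol H) {C : Subgroup H} (hC : IsComponent C) : center C = ⊥ := by
  rw [eq_bot_iff]
  intro z hz
  rw [mem_bot]
  apply Subtype.ext
  refine eq_one_of_centralizes hR ?_
  intro D hD x hx
  by_cases h : C = D
  · subst h
    have h1 := mem_center_iff.1 hz ⟨x, hx⟩
    have h2 : x * (z : H) = z * x := congrArg Subtype.val h1
    rw [← h2, mul_inv_cancel_right]
  · rw [comm_of_ne hC hD h z.2 hx, mul_inv_cancel_right]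

theorem isSimple (hR : NoSol H) {C : Subgroup H} (hC : IsComponent C) : IsSimpleGroup C := by
  have h1 := hC.2.2
  have h2 := center_eq_bot hR hC
  let e : C ⧸ center C ≃* C := (QuotientGroup.quotientMulEquivOfEq h2).trans (QuotientGroup.quotientBot (G := C))
  have := e.symm.toEquiv.nontrivial
  exact IsSimpleGroup.isSimpleGroup_of_surjective e.toMonoidHom e.surjective

theorem not_comm {C : Subgroup H} (hC : IsComponent C) : ¬ ∀ a b : C, a * b = b * a := by
  intro h
  exact quasisimple_not_isMulCommutative hC.2 ⟨⟨h⟩⟩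

end

/-! ### the family of components, abstractly -/

section

variable {H : Type*} [Group H]

/-- the conjugate of a subgroup -/
def cj (h : H) (C : Subgroup H) : Subgroup H := C.map (MulAut.conj h).toMonoidHom

theorem mem_cj {h x : H} {C : Subgroup H} : x ∈ cj h C ↔ h⁻¹ * x * h ∈ C := by
  constructor
  · rintro ⟨y, hy, rfl⟩
    have : h⁻¹ * ((MulAut.conj h).toMonoidHom y) * h = y := by
      simp [mul_assoc]
    rwa [this]
  · intro hx
    refine ⟨_, hx, ?_⟩
    simp [mul_assoc]

theorem conj_mem_cj {h x : H} {C : Subgroup H} (hx : x ∈ C) : h * x * h⁻¹ ∈ cj h C := ⟨x, hx, rfl⟩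

theorem cj_mul (a b : H) (C : Subgroup H) : cj (a * b) C = cj a (cj b C) := by
  ext x
  rw [mem_cj, mem_cj, mem_cj]
  simp [mul_assoc]

theorem cj_one (C : Subgroup H) : cj (1 : H) C = C := by
  ext x
  rw [mem_cj]
  simp

/-- pairwise commuting subgroups, permuted by conjugation, with trivial common centralizer -/
structure Fam (𝓒 : Set (Subgroup H)) : Prop where
  conj : ∀ C ∈ 𝓒, ∀ h : H, cj h C ∈ 𝓒
  comm : ∀ C ∈ 𝓒, ∀ D ∈ 𝓒, C ≠ D → ∀ x ∈ C, ∀ y ∈ D, x * y = y * x
  faith : ∀ h : H, (∀ C ∈ 𝓒, ∀ x ∈ C, h * x * h⁻¹ = x) → h = 1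

variable {𝓒 : Set (Subgroup H)}

/-- a prime factor of the order gives a member on which the corresponding power acts -/
theorem Fam.exists_prime (F : Fam 𝓒) {h : H} {q : ℕ} (hn : 0 < orderOf h) (hq : q.Prime) (hd : q ∣ orderOf h) :
    ∃ C ∈ 𝓒, ∃ x ∈ C, h ^ (orderOf h / q) * x * (h ^ (orderOf h / q))⁻¹ ≠ x := by
  by_contra hcon
  push Not at hcon
  have h1 := F.faith _ hcon
  have h2 := orderOf_dvd_of_pow_eq_one h1
  have h3 : orderOf h / q < orderOf h := Nat.div_lt_self hn hq.one_lt
  have h4 : 0 < orderOf h / q := Nat.div_pos (Nat.le_of_dvd hn hd) hq.pos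
  exact absurd (Nat.le_of_dvd h4 h2) (not_le.2 h3)

/-- powers of `k * h` and of `h` act in the same way on a subgroup none of whose conjugates is `C ∋ k` -/
theorem Fam.pow_conj (F : Fam 𝓒) {h k : H} {C D : Subgroup H} (hC : C ∈ 𝓒) (hD : D ∈ 𝓒) (hk : k ∈ C) {m : ℕ}
    (hne : ∀ i : ℕ, 1 ≤ i → i < m → cj (h ^ i) D ≠ C) {x : H} (hx : x ∈ D) :
    ∀ j : ℕ, j < m → (k * h) ^ j * x * ((k * h) ^ j)⁻¹ = h ^ j * x * (h ^ j)⁻¹ := by
  intro j
  induction j with
  | zero => intro _; simp
  | succ j ih =>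
    intro hj
    have h1 : (k * h) ^ (j + 1) * x * ((k * h) ^ (j + 1))⁻¹ =
        k * (h * ((k * h) ^ j * x * ((k * h) ^ j)⁻¹) * h⁻¹) * k⁻¹ := by
      rw [pow_succ']
      simp only [mul_inv_rev, mul_assoc]
    have h2 : h * (h ^ j * x * (h ^ j)⁻¹) * h⁻¹ = h ^ (j + 1) * x * (h ^ (j + 1))⁻¹ := by
      rw [pow_succ']
      group
    rw [h1, ih (by omega), h2]
    have h3 := F.comm C hC _ (F.conj D hD (h ^ (j + 1))) (hne (j + 1) (by omega) hj).symm k hk _
      (conj_mem_cj (h := h ^ (j + 1)) hx)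
    rw [h3, mul_inv_cancel_right]

/-- the bound on the orbits -/
theorem exists_outside [Finite H] {h : H} (hn : 0 < orderOf h) (f : ℕ → Subgroup H)
    (hcard : orderOf h * orderOf h < 𝓒.ncard) :
    ∃ C ∈ 𝓒, ∀ q ∈ (orderOf h).primeFactors, ∀ i : ℕ, cj (h ^ i) (f q) ≠ C := by
  classical
  let T : Finset (Subgroup H) := ((orderOf h).primeFactors ×ˢ Finset.range (orderOf h)).image
    fun x => cj (h ^ x.2) (f x.1)
  have hT : T.card ≤ orderOf h * orderOf h := by
    refine Finset.card_image_le.trans ?_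
    rw [Finset.card_product, Finset.card_range]
    refine Nat.mul_le_mul_right _ ?_
    have h1 : (orderOf h).primeFactors ⊆ Finset.Icc 1 (orderOf h) := by
      intro q hq
      rw [Finset.mem_Icc]
      have h2 := Nat.mem_primeFactors.1 hq
      exact ⟨h2.1.one_lt.le, Nat.le_of_dvd hn h2.2.1⟩
    have h3 := Finset.card_le_card h1
    rwa [Nat.card_Icc, Nat.add_sub_cancel] at h3
  by_contra hcon
  push Not at hcon
  have h1 : 𝓒 ⊆ (T : Set (Subgroup H)) := by
    intro C hC
    obtain ⟨q, hq, i, hi⟩ := hcon C hC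
    rw [Finset.mem_coe, Finset.mem_image]
    refine ⟨(q, i % orderOf h), ?_, ?_⟩
    · rw [Finset.mem_product, Finset.mem_range]
      exact ⟨hq, Nat.mod_lt _ hn⟩
    · simp only
      rw [pow_mod_orderOf, hi]
  have h2 := Set.ncard_le_ncard h1 (Finset.finite_toSet T)
  rw [Set.ncard_coe_finset] at h2
  omega

/-- if the powers `h ^ N` act trivially where needed, the order of `h` divides `N` -/
theorem orderOf_dvd_of_acts {h : H} {N : ℕ} (hn : 0 < orderOf h) (f : ℕ → Subgroup H)
    (hf : ∀ q ∈ (orderOf h).primeFactors, ∃ x ∈ f q, h ^ (orderOf h / q) * x * (h ^ (orderOf h / q))⁻¹ ≠ x)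
    (hN : ∀ q ∈ (orderOf h).primeFactors, ∀ x ∈ f q, h ^ N * x * (h ^ N)⁻¹ = x) : orderOf h ∣ N := by
  by_contra hcon
  set n := orderOf h with hndef
  set d := Nat.gcd n N with hd
  have hdn : d ∣ n := Nat.gcd_dvd_left _ _
  obtain ⟨c, hc⟩ := hdn
  have hc1 : c ≠ 1 := by
    rintro rfl
    rw [mul_one] at hc
    apply hcon
    rw [hc]
    exact Nat.gcd_dvd_right _ _
  obtain ⟨q, hq, hqc⟩ := Nat.exists_prime_and_dvd hc1
  have hqn : q ∣ n := hc ▸ hqc.mul_left d
  have hmem : q ∈ n.primeFactors := Nat.mem_primeFactors.2 ⟨hq, hqn, hn.ne'⟩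
  obtain ⟨x, hx, hne⟩ := hf q hmem
  apply hne
  have h1 := hN q hmem x hx
  let A : Subgroup H := centralizer ({x} : Set H)
  have hA : ∀ t : H, t * x * t⁻¹ = x ↔ t ∈ A := by
    intro t
    rw [mem_centralizer_singleton_iff, mul_inv_eq_iff_eq_mul]
  rw [hA] at h1 ⊢
  have h2 : h ^ d ∈ A := by
    have h3 : (h ^ d : H) = (h ^ n) ^ (Nat.gcdA n N) * (h ^ N) ^ (Nat.gcdB n N) := by
      rw [← zpow_natCast, hd, Nat.gcd_eq_gcd_ab, zpow_add, zpow_mul, zpow_mul, zpow_natCast, zpow_natCast]
    rw [h3, pow_orderOf_eq_one, one_zpow, one_mul]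
    exact zpow_mem h1 _
  obtain ⟨b, hb⟩ := hqc
  have h4 : n / q = d * b := by
    rw [hc, hb]
    exact Nat.div_eq_of_eq_mul_right hq.pos (by ring)
  rw [h4, pow_mul]
  exact pow_mem h2 _

/-- **Doubling an odd element order.** -/
theorem Fam.exists_two_mul [Finite H] (F : Fam 𝓒) (hE : ∀ C ∈ 𝓒, ∀ τ : MulAut C, ∃ k : C, Even (orderOf (MulAut.conj k * τ))) {h : H}
    (hodd : Odd (orderOf h)) (hcard : orderOf h * orderOf h < 𝓒.ncard) : ∃ g : H, orderOf g = 2 * orderOf h := by
  classical
  have hn : 0 < orderOf h := orderOf_pos h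
  -- the subgroups `C_q`
  have hex : ∀ q : ℕ, ∃ D : Subgroup H, q ∈ (orderOf h).primeFactors →
      D ∈ 𝓒 ∧ ∃ x ∈ D, h ^ (orderOf h / q) * x * (h ^ (orderOf h / q))⁻¹ ≠ x := by
    intro q
    by_cases hq : q ∈ (orderOf h).primeFactors
    · have h1 := Nat.mem_primeFactors.1 hq
      obtain ⟨D, hD, h2⟩ := F.exists_prime hn h1.1 h1.2.1
      exact ⟨D, fun _ => ⟨hD, h2⟩⟩
    · exact ⟨⊥, fun h => absurd h hq⟩
  choose f hf using hex
  obtain ⟨C, hC, hCf⟩ := exists_outside (𝓒 := 𝓒) hn f hcard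
  -- the return time
  have hret : ∃ m : ℕ, 1 ≤ m ∧ cj (h ^ m) C = C := ⟨orderOf h, hn, by rw [pow_orderOf_eq_one, cj_one]⟩
  obtain ⟨m, hm, hmin⟩ : ∃ m : ℕ, (1 ≤ m ∧ cj (h ^ m) C = C) ∧ ∀ i, 1 ≤ i → i < m → cj (h ^ i) C ≠ C :=
    ⟨Nat.find hret, Nat.find_spec hret, fun i h1 h2 h3 => Nat.find_min hret h2 ⟨h1, h3⟩⟩
  have hnorm : ∀ x, x ∈ C ↔ h ^ m * x * (h ^ m)⁻¹ ∈ C := by
    intro x
    constructor
    · intro hx
      have h1 := conj_mem_cj (h := h ^ m) hx
      rwa [hm.2] at h1
    · intro hx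
      have h1 : h ^ m * x * (h ^ m)⁻¹ ∈ cj (h ^ m) C := by rw [hm.2]; exact hx
      rw [mem_cj] at h1
      simpa [mul_assoc] using h1
  have hmemN : h ^ m ∈ normalizer (C : Set H) := by
    rw [mem_normalizer_iff]
    exact hnorm
  let τ : MulAut C := C.normalizerMonoidHom ⟨h ^ m, hmemN⟩
  have hτ : ∀ x : C, ((τ x : C) : H) = h ^ m * x * (h ^ m)⁻¹ := fun x => rfl
  obtain ⟨k, hk⟩ := hE C hC τ
  set g : H := (k : H) * h with hg
  -- `g` acts on the `C_q` as `h`
  have hgf : ∀ q ∈ (orderOf h).primeFactors, ∀ x ∈ f q, ∀ j : ℕ, g ^ j * x * (g ^ j)⁻¹ = h ^ j * x * (h ^ j)⁻¹ := by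
    intro q hq x hx j
    exact F.pow_conj (m := j + 1) hC (hf q hq).1 k.2 (fun i _ _ => hCf q hq i) hx j (by omega)
  -- `g ^ m` acts on `C` as `conj k * τ`
  have hgC : ∀ x : C, g ^ m * (x : H) * (g ^ m)⁻¹ = ((MulAut.conj k * τ) x : C) := by
    intro x
    obtain ⟨m', hm'⟩ : ∃ m', m = m' + 1 := ⟨m - 1, by have := hm.1; omega⟩
    have h1 := F.pow_conj (m := m) (h := h) hC hC k.2 hmin x.2 m' (by omega)
    rw [MulAut.mul_apply, MulAut.conj_apply]
    rw [Subgroup.coe_mul, Subgroup.coe_mul, hτ, hm', pow_succ', Subgroup.coe_inv]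
    rw [← hg] at h1
    calc g * g ^ m' * (x : H) * (g * g ^ m')⁻¹ = g * (g ^ m' * x * (g ^ m')⁻¹) * g⁻¹ := by group
      _ = g * (h ^ m' * x * (h ^ m')⁻¹) * g⁻¹ := by rw [h1]
      _ = _ := by
        rw [hg, pow_succ']
        group
  have hgCj : ∀ (j : ℕ) (x : C), (g ^ m) ^ j * (x : H) * ((g ^ m) ^ j)⁻¹ = (((MulAut.conj k * τ) ^ j : MulAut C) x : C) := by
    intro j
    induction j with
    | zero => intro x; simp
    | succ j ih =>
      intro x
      rw [pow_succ (MulAut.conj k * τ) j, MulAut.mul_apply, ← ih, ← hgC, pow_succ (g ^ m) j]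
      group
  -- the order
  have hN1 : orderOf h ∣ orderOf g := by
    refine orderOf_dvd_of_acts hn f (fun q hq => (hf q hq).2) ?_
    intro q hq x hx
    rw [← hgf q hq x hx, pow_orderOf_eq_one]
    simp
  have hN2 : 2 ∣ orderOf g := by
    have h1 : (MulAut.conj k * τ) ^ orderOf g = 1 := by
      ext x
      rw [← hgCj, ← pow_mul, mul_comm m, pow_mul, pow_orderOf_eq_one]
      simp
    exact (even_iff_two_dvd.1 hk).trans (orderOf_dvd_of_pow_eq_one h1)
  have hN : 2 * orderOf h ∣ orderOf g :=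
    Nat.Coprime.mul_dvd_of_dvd_of_dvd (Nat.coprime_two_left.2 hodd) hN2 hN1
  refine ⟨g ^ (orderOf g / (2 * orderOf h)), ?_⟩
  exact orderOf_pow_orderOf_div (orderOf_pos g).ne' hN

/-- **The order is bounded by the number and the orders of the members.** -/
theorem Fam.card_le [Finite H] (F : Fam 𝓒) {B K : ℕ} (hB : ∀ C ∈ 𝓒, Nat.card C ≤ B) (hK : 𝓒.ncard ≤ K) :
    Nat.card H ≤ (K * B).factorial := by
  classical
  let U : Set H := {x | ∃ C ∈ 𝓒, x ∈ C}
  have hU : ∀ (h x : H), x ∈ U ↔ (MulAut.conj h).toEquiv x ∈ U := by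
    intro h x
    constructor
    · rintro ⟨C, hC, hx⟩
      exact ⟨cj h C, F.conj C hC h, conj_mem_cj hx⟩
    · rintro ⟨C, hC, hx⟩
      refine ⟨cj h⁻¹ C, F.conj C hC h⁻¹, ?_⟩
      have h1 := conj_mem_cj (h := h⁻¹) hx
      have h2 : h⁻¹ * ((MulAut.conj h).toEquiv x) * h⁻¹⁻¹ = x := by
        simp [mul_assoc]
      rwa [h2] at h1
  let φ : H → Equiv.Perm U := fun h => Equiv.subtypeEquiv (MulAut.conj h).toEquiv (hU h)
  have hφ : Function.Injective φ := by
    intro g h hgh
    have h1 : h⁻¹ * g = 1 := by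
      refine F.faith _ ?_
      intro C hC x hx
      have h2 : ((φ g ⟨x, C, hC, hx⟩ : U) : H) = (φ h ⟨x, C, hC, hx⟩ : U) := by rw [hgh]
      have h3 : g * x * g⁻¹ = h * x * h⁻¹ := h2
      calc h⁻¹ * g * x * (h⁻¹ * g)⁻¹ = h⁻¹ * (g * x * g⁻¹) * h := by group
        _ = h⁻¹ * (h * x * h⁻¹) * h := by rw [h3]
        _ = x := by group
    exact (inv_mul_eq_one.1 h1).symm
  have h1 : Nat.card H ≤ Nat.card (Equiv.Perm U) := Nat.card_le_card_of_injective φ hφ
  rw [Nat.card_perm] at h1
  refine h1.trans (Nat.factorial_le ?_)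
  have hfin : 𝓒.Finite := Set.toFinite _
  let T : Finset H := hfin.toFinset.biUnion fun C => (Set.toFinite (C : Set H)).toFinset
  have h2 : U ⊆ (T : Set H) := by
    rintro x ⟨C, hC, hx⟩
    rw [Finset.mem_coe, Finset.mem_biUnion]
    exact ⟨C, hfin.mem_toFinset.2 hC, (Set.toFinite _).mem_toFinset.2 hx⟩
  have h3 : T.card ≤ K * B := by
    refine (Finset.card_biUnion_le_card_mul _ _ B ?_).trans (Nat.mul_le_mul_right _ ?_)
    · intro C hC
      have h4 := hB C (hfin.mem_toFinset.1 hC)
      rw [← Set.ncard_eq_toFinset_card _ (Set.toFinite _)]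
      exact h4
    · rw [← Set.ncard_eq_toFinset_card _ hfin]
      exact hK
  calc Nat.card U = U.ncard := rfl
    _ ≤ (T : Set H).ncard := Set.ncard_le_ncard h2 (Finset.finite_toSet T)
    _ = T.card := Set.ncard_coe_finset T
    _ ≤ _ := h3

/-- the components of a finite group without nontrivial solvable normal subgroups -/
theorem fam_components [Finite H] (hR : NoSol H) : Fam {C : Subgroup H | IsComponent C} where
  conj C hC h := isComponent_conj h hC
  comm _ hC _ hD hne _ hx _ hy := comm_of_ne hC hD hne hx hy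
  faith _ h := eq_one_of_centralizes hR fun C hC => h C hC

end

end Cfsg.Agent.H369.Socle
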